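import Mathlib
import Cfsg.Agent.Solvable.Carter
import Cfsg.Agent.Lib.MinNormal

/-!
# Conjugacy of Carter subgroups: general lemmas for the reduction to almost simple groups
-/

set_option autoImplicit false
set_option linter.unusedSectionVars false
set_option linter.unusedVariables false

namespace Cfsg.Agent.H18.Carter

open Subgroup Pointwise
open Cfsg.Agent.Solvable.Carter
open scoped commutatorElement

universe u

/-- any two Carter subgroups are conjugate -/
def CC (G : Type u) [Group G] : Prop :=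
  ∀ C D : Subgroup G, IsCarter C → IsCarter D → ∃ g : G, MulAut.conj g • C = D

section

variable {G : Type u} [Group G]

theorem CC.of_solvable [Finite G] (h : Group.IsSolvable G) : CC G := fun C D hC hD => (carter G h).2 C D hC hD

theorem CC.of_subsingleton [Subsingleton G] : CC G := fun C D _ _ => ⟨1, Subsingleton.elim _ _⟩

theorem mem_cj {g x : G} {C : Subgroup G} : x ∈ MulAut.conj g • C ↔ g⁻¹ * x * g ∈ C := mem_conj_smul_iff

theorem cj_mem {g x : G} {C : Subgroup G} (hx : x ∈ C) : g * x * g⁻¹ ∈ MulAut.conj g • C := by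
  rw [mem_cj]
  have e : g⁻¹ * (g * x * g⁻¹) * g = x := by group
  rwa [e]

theorem cj_eq_self_iff {g : G} {C : Subgroup G} : MulAut.conj g • C = C ↔ g ∈ normalizer (C : Set G) :=
  conj_smul_eq_iff_mem_normalizer

theorem cj_self {g : G} {C : Subgroup G} (h : g ∈ C) : MulAut.conj g • C = C := cj_eq_self_iff.2 (le_normalizer h)

theorem cj_cj (g h : G) (C : Subgroup G) : MulAut.conj g • MulAut.conj h • C = MulAut.conj (g * h) • C := by
  rw [smul_smul, ← map_mul]

theorem cj_one (C : Subgroup G) : MulAut.conj (1 : G) • C = C := by rw [map_one, one_smul]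

theorem cj_normalizer (g : G) (X : Subgroup G) :
    MulAut.conj g • normalizer (X : Set G) = normalizer ((MulAut.conj g • X : Subgroup G) : Set G) := by
  ext x
  rw [mem_cj, mem_normalizer_conj_smul]

theorem cj_centralizer (g : G) (X : Subgroup G) :
    MulAut.conj g • centralizer (X : Set G) = centralizer ((MulAut.conj g • X : Subgroup G) : Set G) := by
  ext x
  rw [mem_cj]
  constructor
  · intro h y hy
    have hy' := mem_cj.1 hy
    have h1 := h _ hy'
    have : g⁻¹ * (y * x) * g = g⁻¹ * (x * y) * g := by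
      calc g⁻¹ * (y * x) * g = (g⁻¹ * y * g) * (g⁻¹ * x * g) := by group
        _ = (g⁻¹ * x * g) * (g⁻¹ * y * g) := h1
        _ = _ := by group
    exact mul_left_cancel (mul_right_cancel this)
  · intro h y hy
    have h1 := h _ (cj_mem (g := g) hy)
    calc y * (g⁻¹ * x * g) = g⁻¹ * ((g * y * g⁻¹) * x) * g := by group
      _ = g⁻¹ * (x * (g * y * g⁻¹)) * g := by rw [h1]
      _ = _ := by group

theorem cj_normal (g : G) {N : Subgroup G} (hN : N.Normal) : MulAut.conj g • N = N := by
  rw [cj_eq_self_iff, normalizer_eq_top]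
  trivial

theorem mul_mem_of_norm {A B : Subgroup G} (h : B ≤ normalizer (A : Set G)) {x : G} (hx : x ∈ A ⊔ B) :
    ∃ a ∈ A, ∃ b ∈ B, x = a * b := by
  have h1 := coe_mul_of_right_le_normalizer_left A B h
  have h2 : x ∈ ((A ⊔ B : Subgroup G) : Set G) := hx
  rw [h1] at h2
  obtain ⟨a, ha, b, hb, e⟩ := h2
  exact ⟨a, ha, b, hb, e.symm⟩

theorem mul_mem_of_norm' {A B : Subgroup G} (h : A ≤ normalizer (B : Set G)) {x : G} (hx : x ∈ A ⊔ B) :
    ∃ a ∈ A, ∃ b ∈ B, x = a * b := by
  rw [sup_comm] at hx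
  obtain ⟨b, hb, a, ha, e⟩ := mul_mem_of_norm h (inv_mem hx)
  exact ⟨a⁻¹, inv_mem ha, b⁻¹, inv_mem hb, by rw [← mul_inv_rev, ← e, inv_inv]⟩

/-- `[D C, D C] ≤ [D, D] C` for `D` normalising `C` -/
theorem commutator_sup_le {D C : Subgroup G} (h : D ≤ normalizer (C : Set G)) : ⁅D ⊔ C, D ⊔ C⁆ ≤ ⁅D, D⁆ ⊔ C := by
  have hc : ∀ d ∈ D, ∀ c ∈ C, d * c * d⁻¹ ∈ C := fun d hd c hc => (mem_normalizer_iff.1 (h hd) c).1 hc
  rw [commutator_le]
  intro x hx y hy
  obtain ⟨d, hd, c, hcC, rfl⟩ := mul_mem_of_norm' h hx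
  obtain ⟨d', hd', c', hc', rfl⟩ := mul_mem_of_norm' h hy
  have e : ⁅d * c, d' * c'⁆ = (d * c * d⁻¹) * ((d * d') * (c' * c⁻¹) * (d * d')⁻¹) * ⁅d, d'⁆ * (d' * c'⁻¹ * d'⁻¹) := by
    simp only [commutatorElement_def]; group
  rw [e]
  refine mul_mem (mul_mem (mul_mem ?_ ?_) ?_) ?_
  · exact mem_sup_right (hc d hd c hcC)
  · exact mem_sup_right (hc _ (mul_mem hd hd') _ (mul_mem hc' (inv_mem hcC)))
  · exact mem_sup_left (commutator_mem_commutator hd hd')
  · exact mem_sup_right (hc d' hd' _ (inv_mem hc'))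

/-- a perfect subgroup of `K C`, `K` solvable normalising `C`, lies in `C` -/
theorem perfect_le {P K C : Subgroup G} (hP : ⁅P, P⁆ = P) (hK : Group.IsSolvable K) (hKC : K ≤ normalizer (C : Set G))
    (h : P ≤ K ⊔ C) : P ≤ C := by
  have key : ∀ n : ℕ, P ≤ (derivedSeries K n).map K.subtype ⊔ C := by
    intro n
    induction n with
    | zero =>
      rw [derivedSeries_zero, ← MonoidHom.range_eq_map, range_subtype]
      exact h
    | succ n ih =>
      rw [derivedSeries_succ, map_commutator]
      have h1 : (derivedSeries K n).map K.subtype ≤ normalizer (C : Set G) := (map_subtype_le _).trans hKC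
      calc P = ⁅P, P⁆ := hP.symm
        _ ≤ ⁅(derivedSeries K n).map K.subtype ⊔ C, (derivedSeries K n).map K.subtype ⊔ C⁆ := commutator_mono ih ih
        _ ≤ _ := commutator_sup_le h1
  obtain ⟨n, hn⟩ := hK.solvable
  have h1 := key n
  rwa [hn, Subgroup.map_bot, bot_sup_eq] at h1

/-- a finite subgroup without nontrivial perfect subgroups is solvable -/
theorem solvable_of_perfect [Finite G] {M : Subgroup G} (h : ∀ P : Subgroup G, P ≤ M → ⁅P, P⁆ = P → P = ⊥) :
    Group.IsSolvable M := by
  let f : ℕ → Subgroup G := fun n => (derivedSeries M n).map M.subtype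
  have hanti : ∀ n, f (n + 1) ≤ f n := fun n => map_mono (derivedSeries_antitone M (Nat.le_succ n))
  obtain ⟨n, hn⟩ : ∃ n, f (n + 1) = f n := by
    by_contra hcon
    push Not at hcon
    have hlt : ∀ n, Nat.card (f (n + 1)) < Nat.card (f n) := by
      intro n
      refine lt_of_le_of_ne (card_le_of_le (hanti n)) fun e => hcon n ?_
      exact eq_of_le_of_card_ge (hanti n) e.ge
    have hb : ∀ n, Nat.card (f n) + n ≤ Nat.card (f 0) := by
      intro n
      induction n with
      | zero => simp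
      | succ n ih => have := hlt n; omega
    have h1 := hb (Nat.card (f 0))
    have h2 : 0 < Nat.card (f (Nat.card (f 0))) := Nat.card_pos
    omega
  have h1 : ⁅f n, f n⁆ = f n := by
    conv_rhs => rw [← hn]
    show _ = (derivedSeries M (n + 1)).map M.subtype
    rw [derivedSeries_succ, map_commutator]
  have h2 := h (f n) (map_subtype_le _) h1
  refine ⟨⟨n, ?_⟩⟩
  exact (Subgroup.map_eq_bot_iff_of_injective _ M.subtype_injective).1 h2

end

end Cfsg.Agent.H18.Carter
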