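import Cfsg.Agent.H18.Carter.Red
import Cfsg.Prelude.Def_SolvableStructure

/-!
# Conjugacy of Carter subgroups: the almost simple minimal counterexample
-/

set_option autoImplicit false
set_option linter.unusedSectionVars false
set_option linter.unusedVariables false

namespace Cfsg.Agent.H18.Carter

open Subgroup Pointwise
open Cfsg.Agent.Solvable.Carter
open scoped commutatorElement

universe u

/-- the almost simple group in which Carter subgroups are to be conjugate -/
structure Ctx (G : Type u) [Group G] (S : Subgroup G) [S.Normal] : Prop where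
  simple : IsSimpleGroup S
  na : ¬ ∀ a b : S, a * b = b * a
  cen : centralizer (S : Set G) = ⊥
  nil : Group.IsNilpotent (G ⧸ S)
  prod : ∀ C : Subgroup G, IsCarter C → C ⊔ S = ⊤
  min : ∀ (B : Type u) [Group B] [Finite B], Nat.card B < Nat.card G → CC B

/-- the reduction, with `Ctx` -/
theorem reduction' (row : ∀ (G : Type u) [Group G] [Finite G] (S : Subgroup G) [S.Normal], Ctx G S → CC G) :
    ∀ (G : Type u) [Group G] [Finite G], CC G :=
  reduction fun G _ _ S _ h1 h2 h3 h4 h5 h6 => row G S ⟨h1, h2, h3, h4, h5, h6⟩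

/-- the form of S3852 -/
theorem s3852_of (row : ∀ (G : Type u) [Group G] [Finite G] (S : Subgroup G) [S.Normal], Ctx G S → CC G)
    {G : Type u} [Group G] [Finite G] (H K : Subgroup G) (hH : Cfsg.IsCarterSubgroup H) (hK : Cfsg.IsCarterSubgroup K) :
    ∃ g : G, K = H.map (MulAut.conj g).toMonoidHom := by
  obtain ⟨g, hg⟩ := reduction' row G H K hH hK
  exact ⟨g, hg.symm⟩

namespace Ctx

variable {G : Type u} [Group G] [Finite G] {S : Subgroup G} [S.Normal] (c : Ctx G S)
include c

theorem S_ne_bot : S ≠ ⊥ := (Subgroup.nontrivial_iff_ne_bot _).1 c.simple.toNontrivial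

theorem sub {M : Subgroup G} (hM : M ≠ ⊤) : CC M := c.min M (Cfsg.Agent.Lib.SolvableNormalP.card_lt_of_ne_top hM)

/-- Carter subgroups lying in a proper subgroup are conjugate in it -/
theorem conj_of_le {M K H : Subgroup G} (hM : M ≠ ⊤) (hK : IsCarter K) (hH : IsCarter H) (hKM : K ≤ M) (hHM : H ≤ M) :
    ∃ g ∈ M, MulAut.conj g • K = H := exists_conj_of_le (c.sub hM) hK hH hKM hHM

/-- a normal subgroup is trivial or contains `S` -/
theorem le_of_normal {X : Subgroup G} (hX : X.Normal) (hne : X ≠ ⊥) : S ≤ X := by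
  have h1 : ((X ⊓ S).subgroupOf S).Normal := by
    have : (X ⊓ S).Normal := inferInstance
    infer_instance
  rcases c.simple.eq_bot_or_eq_top_of_normal _ h1 with h | h
  · exfalso
    apply hne
    have h2 : X ⊓ S = ⊥ := (subgroupOf_eq_bot.1 h).eq_bot_of_le inf_le_right
    rw [eq_bot_iff, ← c.cen]
    rw [← Subgroup.commutator_eq_bot_iff_le_centralizer, eq_bot_iff, ← h2]
    exact Subgroup.commutator_le_inf X S
  · exact (subgroupOf_eq_top.1 h).trans inf_le_left

theorem S_not_solvable : ¬ Group.IsSolvable S := by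
  intro h
  apply c.na
  have h1 := c.simple
  have h2 := c.simple.toNontrivial
  have h3 : _root_.commutator S = ⊥ := by
    rcases c.simple.eq_bot_or_eq_top_of_normal (_root_.commutator S) inferInstance with h4 | h4
    · exact h4
    · have := Group.IsSolvable.commutator_lt_top_of_nontrivial S
      rw [h4] at this
      exact absurd this (lt_irrefl _)
  intro a b
  have h4 : ⁅a, b⁆ ∈ _root_.commutator S := commutator_mem_commutator (mem_top a) (mem_top b)
  rw [h3, mem_bot, commutatorElement_eq_one_iff_mul_comm] at h4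
  exact h4

theorem norm_ne_top {X : Subgroup G} (hne : X ≠ ⊥) (hX : Group.IsSolvable X) : normalizer (X : Set G) ≠ ⊤ := by
  intro h
  apply c.S_not_solvable
  have h1 := c.le_of_normal (normalizer_eq_top_iff.1 h) hne
  exact Group.isSolvable_of_isSolvable_injective (f := inclusion h1) (inclusion_injective _)

theorem cent_ne_top {z : G} (hz : z ≠ 1) : centralizer ({z} : Set G) ≠ ⊤ := by
  intro h
  apply hz
  have h1 : z ∈ centralizer (S : Set G) := by
    intro s _
    have : s ∈ centralizer ({z} : Set G) := by rw [h]; trivial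
    exact mem_centralizer_singleton_iff.1 this
  rw [c.cen, mem_bot] at h1
  exact h1

/-- **(A2)** a nontrivial normal subgroup `X` of `K` with `X^g` normal in `H`: `K` and `H` are conjugate -/
theorem conj_of_common {K H X : Subgroup G} (hK : IsCarter K) (hH : IsCarter H) (hX : X ≠ ⊥) (hXK : X ≤ K)
    (hKX : K ≤ normalizer (X : Set G)) {g : G} (hHX : H ≤ normalizer ((MulAut.conj g • X : Subgroup G) : Set G)) :
    ∃ h : G, MulAut.conj h • K = H := by
  have hsol : Group.IsSolvable X := by
    have := hK.1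
    exact Group.isSolvable_of_isSolvable_injective (f := inclusion hXK) (inclusion_injective _)
  have h1 : MulAut.conj g⁻¹ • H ≤ normalizer (X : Set G) := by
    have h2 : X = MulAut.conj g⁻¹ • MulAut.conj g • X := by rw [cj_cj, inv_mul_cancel, cj_one]
    rw [h2, ← cj_normalizer]
    exact Subgroup.pointwise_smul_le_pointwise_smul_iff.2 hHX
  obtain ⟨h, -, hh⟩ := c.conj_of_le (c.norm_ne_top hX hsol) hK (hH.conj g⁻¹) hKX h1
  exact ⟨g * h, by rw [← cj_cj, hh, cj_cj, mul_inv_cancel, cj_one]⟩

/-- **(A2)** a nontrivial normal subgroup `X` of `K` with `X^g` normalised by `K` is equal to `X^g` -/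
theorem eq_of_norm {K X : Subgroup G} (hK : IsCarter K) (hX : X ≠ ⊥) (hXK : X ≤ K)
    (hKX : K ≤ normalizer (X : Set G)) {g : G} (h : K ≤ normalizer ((MulAut.conj g • X : Subgroup G) : Set G)) :
    MulAut.conj g • X = X := by
  have hsol : Group.IsSolvable X := by
    have := hK.1
    exact Group.isSolvable_of_isSolvable_injective (f := inclusion hXK) (inclusion_injective _)
  have h1 : MulAut.conj g⁻¹ • K ≤ normalizer (X : Set G) := by
    have h2 : X = MulAut.conj g⁻¹ • MulAut.conj g • X := by rw [cj_cj, inv_mul_cancel, cj_one]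
    rw [h2, ← cj_normalizer]
    exact Subgroup.pointwise_smul_le_pointwise_smul_iff.2 h
  obtain ⟨y, hy, hh⟩ := c.conj_of_le (c.norm_ne_top hX hsol) (hK.conj g⁻¹) hK h1 hKX
  rw [cj_cj, cj_eq_self_iff, hK.2] at hh
  have h3 : g ∈ normalizer (X : Set G) := by
    have h4 := mul_mem (inv_mem (hKX hh)) hy
    have e : (y * g⁻¹)⁻¹ * y = g := by group
    rwa [e] at h4
  exact cj_eq_self_iff.2 h3

/-- **(A1)** distinct elements of the centre of `K` are not conjugate -/
theorem eq_of_conj {K : Subgroup G} (hK : IsCarter K) {z : G} (hzK : K ≤ centralizer ({z} : Set G)) {g : G}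
    (h : K ≤ centralizer ({g * z * g⁻¹} : Set G)) : g * z * g⁻¹ = z := by
  by_cases hz : z = 1
  · rw [hz]; group
  have h1 : MulAut.conj g⁻¹ • K ≤ centralizer ({z} : Set G) := by
    intro x hx
    rw [mem_cj, inv_inv] at hx
    have h2 := h hx
    rw [mem_centralizer_singleton_iff] at h2 ⊢
    have h3 : g * (x * z) * g⁻¹ = g * (z * x) * g⁻¹ := by
      calc g * (x * z) * g⁻¹ = (g * x * g⁻¹) * (g * z * g⁻¹) := by group
        _ = (g * z * g⁻¹) * (g * x * g⁻¹) := h2
        _ = _ := by group
    exact mul_left_cancel (mul_right_cancel h3)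
  obtain ⟨y, hy, hh⟩ := c.conj_of_le (c.cent_ne_top hz) (hK.conj g⁻¹) hK h1 hzK
  rw [cj_cj, cj_eq_self_iff, hK.2] at hh
  have h3 : g ∈ centralizer ({z} : Set G) := by
    have h4 := mul_mem (inv_mem (hzK hh)) hy
    have e : (y * g⁻¹)⁻¹ * y = g := by group
    rwa [e] at h4
  rw [mem_centralizer_singleton_iff.1 h3, mul_inv_cancel_right]

/-- if a conjugate of a nontrivial element centralised by `K` is centralised by `H` then `K` and `H` are conjugate -/
theorem conj_of_cent {K H : Subgroup G} (hK : IsCarter K) (hH : IsCarter H) {z : G} (hz : z ≠ 1)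
    (hzK : K ≤ centralizer ({z} : Set G)) {g : G} (h : H ≤ centralizer ({g * z * g⁻¹} : Set G)) :
    ∃ h : G, MulAut.conj h • K = H := by
  have h1 : MulAut.conj g⁻¹ • H ≤ centralizer ({z} : Set G) := by
    intro x hx
    rw [mem_cj, inv_inv] at hx
    have h2 := h hx
    rw [mem_centralizer_singleton_iff] at h2 ⊢
    have h3 : g * (x * z) * g⁻¹ = g * (z * x) * g⁻¹ := by
      calc g * (x * z) * g⁻¹ = (g * x * g⁻¹) * (g * z * g⁻¹) := by group
        _ = (g * z * g⁻¹) * (g * x * g⁻¹) := h2
        _ = _ := by group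
    exact mul_left_cancel (mul_right_cancel h3)
  obtain ⟨y, -, hh⟩ := c.conj_of_le (c.cent_ne_top hz) hK (hH.conj g⁻¹) hzK h1
  exact ⟨g * y, by rw [← cj_cj, hh, cj_cj, mul_inv_cancel, cj_one]⟩

/-- `K` is a `p`-group: it is a Sylow `p`-subgroup -/
theorem sylow_of_pgroup {p : ℕ} [hp : Fact p.Prime] {K : Subgroup G} (hK : IsCarter K) (hpK : IsPGroup p K) :
    ∃ P : Sylow p G, (P : Subgroup G) = K := by
  obtain ⟨P, hP⟩ := hpK.exists_le_sylow
  refine ⟨P, ?_⟩
  by_contra hne
  have hnil : Group.IsNilpotent ↥(P : Subgroup G) := P.2.isNilpotent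
  have h1 : K.subgroupOf (P : Subgroup G) < ⊤ := by
    rw [lt_top_iff_ne_top]
    intro h
    exact hne (le_antisymm (subgroupOf_eq_top.1 h) hP)
  have h2 := Group.normalizerCondition_of_isNilpotent (G := ↥(P : Subgroup G)) _ h1
  rw [← subgroupOf_normalizer_eq hP, hK.2] at h2
  exact lt_irrefl _ h2

end Ctx

end Cfsg.Agent.H18.Carter
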