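import Cfsg.Agent.H18.Carter.Wreath

/-!
# Conjugacy of Carter subgroups: the images in the automorphism groups of the components are Carter subgroups
-/

set_option autoImplicit false
set_option linter.unusedSectionVars false
set_option linter.unusedVariables false

namespace Cfsg.Agent.H18.Carter

open Subgroup Pointwise
open Cfsg.Agent.Solvable.Carter
open scoped commutatorElement

universe u

variable {G : Type u} [Group G]

namespace Cfg

variable {m : ℕ} (c : Cfg G m)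

theorem key [Finite G] {K : Subgroup G} (hK : IsCarter K) (hKN : K ⊔ c.N = ⊤) (i : Fin m) {s : G} (hs : s ∈ c.T i)
    (hsY : MulAut.conj s • Y K (c.T i) = Y K (c.T i)) : s ∈ Y K (c.T i) := by
  choose k hkK hkT using c.transK hKN i
  -- the element `n`
  obtain ⟨n, hnN, hn⟩ := c.spread (fun j => k j * s * (k j)⁻¹) (fun j => by rw [← hkT j]; exact cj_mem hs)
  have hnorm : ∀ y ∈ Y K (c.T i), s * y * s⁻¹ ∈ Y K (c.T i) := by
    intro y hy
    have := cj_mem (g := s) hy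
    rwa [hsY] at this
  -- `[κ, n] ∈ Δ`
  have hcl : ∀ κ ∈ K, κ * n * κ⁻¹ * n⁻¹ ∈ c.Del K := by
    intro κ hκ
    rw [c.mem_Del]
    refine ⟨mul_mem (c.nN.conj_mem n hnN κ) (inv_mem hnN), fun j => ?_⟩
    obtain ⟨i', hi'⟩ := c.perm κ⁻¹ j
    have hκi : MulAut.conj κ • c.T i' = c.T j := by rw [← hi', cj_cj, mul_inv_cancel, cj_one]
    -- `κ' = k_j⁻¹ κ k_{i'}`
    set κ' := (k j)⁻¹ * κ * k i' with hκ'
    have hκ'K : κ' ∈ K := mul_mem (mul_mem (inv_mem (hkK j)) hκ) (hkK i')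
    have hκ'T : κ' ∈ normalizer (c.T i : Set G) := by
      rw [← cj_eq_self_iff, hκ', ← cj_cj, ← cj_cj, hkT i', hκi, ← hkT j, cj_cj, inv_mul_cancel, cj_one]
    have hκ'Y : κ' ∈ Y K (c.T i) := inf_le_Y _ _ ⟨hκ'K, hκ'T⟩
    have h1 : κ' * (s * κ'⁻¹ * s⁻¹) ∈ Y K (c.T i) := mul_mem hκ'Y (hnorm _ (inv_mem hκ'Y))
    have h2 : k j * (κ' * (s * κ'⁻¹ * s⁻¹)) * (k j)⁻¹ ∈ Y K (c.T j) := by
      have := cj_mem (g := k j) h1
      rwa [cj_Y, cj_self (hkK j), hkT j] at this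
    -- centralising parts
    have h3 : κ * ((k i' * s * (k i')⁻¹)⁻¹ * n) * κ⁻¹ ∈ centralizer (c.T j : Set G) := by
      have := cj_mem (g := κ) (hn i')
      rwa [cj_centralizer, hκi] at this
    have h4 := hn j
    have hsj : k j * s * (k j)⁻¹ ∈ normalizer (centralizer (c.T j : Set G) : Set G) := by
      refine cent_norm _ (le_normalizer ?_)
      rw [← hkT j]; exact cj_mem hs
    have h5 : (k j * s * (k j)⁻¹) * ((κ * ((k i' * s * (k i')⁻¹)⁻¹ * n) * κ⁻¹) * ((k j * s * (k j)⁻¹)⁻¹ * n)⁻¹) *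
        (k j * s * (k j)⁻¹)⁻¹ ∈ centralizer (c.T j : Set G) :=
      (mem_normalizer_iff.1 hsj _).1 (mul_mem h3 (inv_mem h4))
    have e : κ * n * κ⁻¹ * n⁻¹ = (k j * (κ' * (s * κ'⁻¹ * s⁻¹)) * (k j)⁻¹) *
        ((k j * s * (k j)⁻¹) * ((κ * ((k i' * s * (k i')⁻¹)⁻¹ * n) * κ⁻¹) * ((k j * s * (k j)⁻¹)⁻¹ * n)⁻¹) *
        (k j * s * (k j)⁻¹)⁻¹) := by
      rw [hκ']; group
    rw [e]
    exact mul_mem h2 (cent_le_Y _ _ h5)
  -- `n ∈ M = K Δ`
  have hKs : Group.IsSolvable K := by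
    have := hK.1
    infer_instance
  have hM : Group.IsSolvable ↥(K ⊔ c.Del K) := c.solvable hKs fun x hx hxN j => ((c.mem_Del).1 (c.sup_Del hx hxN)).2 j
  have h1 : MulAut.conj n • K ≤ K ⊔ c.Del K := by
    intro x hx
    rw [mem_cj] at hx
    have h2 := hcl _ hx
    have e : x = ((n⁻¹ * x * n) * n * (n⁻¹ * x * n)⁻¹ * n⁻¹)⁻¹ * (n⁻¹ * x * n) := by group
    rw [e]
    exact mul_mem (mem_sup_right (inv_mem h2)) (mem_sup_left hx)
  obtain ⟨g, hg, hgK⟩ := exists_conj_of_le (CC.of_solvable hM) (hK.conj n) hK h1 le_sup_left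
  have h2 : g * n ∈ K := by
    rw [cj_cj, cj_eq_self_iff, hK.2] at hgK
    exact hgK
  have h3 : n ∈ K ⊔ c.Del K := by
    have := mul_mem (inv_mem hg) (mem_sup_left h2 : g * n ∈ K ⊔ c.Del K)
    rwa [inv_mul_cancel_left] at this
  have h4 : n ∈ Y K (c.T i) := ((c.mem_Del).1 (c.sup_Del h3 hnN)).2 i
  have h5 : k i * s * (k i)⁻¹ ∈ Y K (c.T i) := by
    have h6 := mul_mem h4 (inv_mem (cent_le_Y K _ (hn i)))
    have e : n * ((k i * s * (k i)⁻¹)⁻¹ * n)⁻¹ = k i * s * (k i)⁻¹ := by group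
    rwa [e] at h6
  have h6 : k i ∈ Y K (c.T i) := inf_le_Y _ _ ⟨hkK i, cj_eq_self_iff.1 (hkT i)⟩
  have h7 := mul_mem (mul_mem (inv_mem h6) h5) h6
  have e : (k i)⁻¹ * (k i * s * (k i)⁻¹) * k i = s := by group
  rwa [e] at h7

/-- `N_G(T_i) = T_i Y` -/
theorem norm_decomp {K : Subgroup G} (hKN : K ⊔ c.N = ⊤) (i : Fin m) {g : G} (hg : g ∈ normalizer (c.T i : Set G)) :
    ∃ s ∈ c.T i, ∃ y ∈ Y K (c.T i), g = s * y := by
  have hg' : g ∈ c.N ⊔ K := by rw [sup_comm, hKN]; trivial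
  obtain ⟨n, hn, k, hk, rfl⟩ := mul_mem_of_norm (le_normalizer_of_normal_aux c.nN K) hg'
  have hk' : k ∈ normalizer (c.T i : Set G) := by
    have := mul_mem (inv_mem (c.nT i hn)) hg
    rwa [inv_mul_cancel_left] at this
  obtain ⟨s, hs, z, hz, rfl⟩ := mul_mem_of_norm (centralizer_le_normalizer _) (c.N_le i hn)
  exact ⟨s, hs, z * k, mul_mem (cent_le_Y _ _ hz) (inf_le_Y _ _ ⟨hk, hk'⟩), by group⟩

theorem key' [Finite G] {K : Subgroup G} (hK : IsCarter K) (hKN : K ⊔ c.N = ⊤) (i : Fin m) {g : G}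
    (hg : g ∈ normalizer (c.T i : Set G)) (hgY : MulAut.conj g • Y K (c.T i) = Y K (c.T i)) : g ∈ Y K (c.T i) := by
  obtain ⟨s, hs, y, hy, rfl⟩ := c.norm_decomp hKN i hg
  rw [← cj_cj, cj_self hy] at hgY
  exact mul_mem (c.key hK hKN i hs hgY) hy

/-- the automorphism group induced on the component -/
abbrev A (i : Fin m) : Type u := ↥(normalizer (c.T i : Set G)) ⧸ (centralizer (c.T i : Set G)).subgroupOf (normalizer (c.T i : Set G))

instance (i : Fin m) : ((centralizer (c.T i : Set G)).subgroupOf (normalizer (c.T i : Set G))).Normal := inferInstance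

/-- the projection -/
abbrev pr (i : Fin m) : ↥(normalizer (c.T i : Set G)) →* c.A i :=
  QuotientGroup.mk' ((centralizer (c.T i : Set G)).subgroupOf (normalizer (c.T i : Set G)))

/-- the image of `K` -/
def im (K : Subgroup G) (i : Fin m) : Subgroup (c.A i) := (K.subgroupOf (normalizer (c.T i : Set G))).map (c.pr i)

theorem mem_im {K : Subgroup G} {i : Fin m} {x : ↥(normalizer (c.T i : Set G))} :
    c.pr i x ∈ c.im K i ↔ (x : G) ∈ Y K (c.T i) := by
  constructor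
  · rintro ⟨k, hk, e⟩
    have h1 : k⁻¹ * x ∈ (centralizer (c.T i : Set G)).subgroupOf (normalizer (c.T i : Set G)) := QuotientGroup.eq.1 e
    have h2 : (k : G)⁻¹ * x ∈ centralizer (c.T i : Set G) := h1
    have h3 : (k : G) * ((k : G)⁻¹ * x) ∈ Y K (c.T i) := mul_mem (inf_le_Y K (c.T i) ⟨hk, k.2⟩) (cent_le_Y K _ h2)
    rwa [mul_inv_cancel_left] at h3
  · intro hx
    obtain ⟨k, hk, z, hz, e⟩ := mul_mem_of_norm' (inf_le_right.trans (cent_norm _)) hx
    refine ⟨⟨k, hk.2⟩, hk.1, ?_⟩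
    refine QuotientGroup.eq.2 ?_
    show k⁻¹ * (x : G) ∈ centralizer (c.T i : Set G)
    rw [e, inv_mul_cancel_left]
    exact hz

theorem carter_im [Finite G] {K : Subgroup G} (hK : IsCarter K) (hKN : K ⊔ c.N = ⊤) (i : Fin m) : IsCarter (c.im K i) := by
  have hnil := hK.1
  have h0 : Group.IsNilpotent ↥(K.subgroupOf (normalizer (c.T i : Set G))) := by
    have : Group.IsNilpotent ↥(K ⊓ normalizer (c.T i : Set G)) :=
      Group.nilpotent_of_mulEquiv (subgroupOfEquivOfLe (inf_le_left : K ⊓ normalizer (c.T i : Set G) ≤ K))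
    rw [← inf_subgroupOf_right]
    exact Group.nilpotent_of_mulEquiv (subgroupOfEquivOfLe inf_le_right).symm
  refine ⟨Group.nilpotent_of_surjective ((c.pr i).subgroupMap _) ((c.pr i).subgroupMap_surjective _), ?_⟩
  refine le_antisymm ?_ le_normalizer
  intro a ha
  obtain ⟨g, rfl⟩ := QuotientGroup.mk'_surjective _ a
  rw [c.mem_im]
  refine c.key' hK hKN i g.2 ?_
  have h1 : ∀ y ∈ Y K (c.T i), (g : G) * y * (g : G)⁻¹ ∈ Y K (c.T i) := by
    intro y hy
    have hyn : y ∈ normalizer (c.T i : Set G) := Y_le_norm _ _ hy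
    have h2 : c.pr i ⟨y, hyn⟩ ∈ c.im K i := c.mem_im.2 hy
    have h3 := (mem_normalizer_iff.1 ha _).1 h2
    have h4 : c.pr i (g * ⟨y, hyn⟩ * g⁻¹) ∈ c.im K i := by rw [map_mul, map_mul, map_inv]; exact h3
    exact c.mem_im.1 h4
  have hle : MulAut.conj (g : G) • Y K (c.T i) ≤ Y K (c.T i) := by
    intro x hx
    have := h1 _ (mem_cj.1 hx)
    have e : (g : G) * ((g : G)⁻¹ * x * g) * (g : G)⁻¹ = x := by group
    rwa [e] at this
  refine eq_of_le_of_card_ge hle ?_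
  rw [conj_smul_eq_map, Nat.card_congr ((Y K (c.T i)).equivMapOfInjective _ (MulAut.conj (g : G)).injective).symm.toEquiv]

end Cfg

end Cfsg.Agent.H18.Carter
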