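import Cfsg.Agent.H18.Carter.Asm
import Cfsg.Agent.H308.Car.E6Fin
import Cfsg.Agent.H502.Car.Rows
import Cfsg.Agent.H55.CO.Final
import Cfsg.Agent.H55.CO.TsFinal
import Cfsg.Agent.H460.Car.ExcOk
import Cfsg.Agent.S0205

/-!
# S3852: everything but the inputs with the heaviest closures

`known` : the classification; `fpf` : groups with a fixed point free nilpotent group of automorphisms are solvable;
`spor`, `tits` : the rows of the sporadic groups and the Tits group.
-/

set_option autoImplicit false
set_option linter.unusedSectionVars false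
set_option linter.unusedVariables false

namespace Cfsg.Agent.H18.Carter

open Subgroup Cfsg Cfsg.Lie
open Cfsg.Agent.Solvable.Carter Cfsg.Agent.H381.Car

universe u

theorem ft : Cfsg.Agent.H460.Car.FT.{u} := fun B _ _ h => Cfsg.Agent.S0205.result h

/-- **S3852 from the inputs with the heaviest closures** -/
theorem s3852_mid
    (known : ∀ (T : Type u) [Group T] [Finite T], IsSimpleGroup T → IsKnownSimple' T)
    (fpf : Fpf.{u})
    (spor : ∀ (G : Type u) [Group G] [Finite G] (S : Subgroup G) [S.Normal], Ctx G S → IsSporadicGroup ↥S →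
      ∀ K : Subgroup G, IsCarter K → IsPGroup 2 ↥(K ⊓ S))
    (tits : ∀ (G : Type u) [Group G] [Finite G] (S : Subgroup G) [S.Normal], Ctx G S → Lie.IsoTits ↥S →
      ∀ K : Subgroup G, IsCarter K → IsPGroup 2 ↥(K ⊓ S))
    {G : Type u} [Group G] [Finite G] (H K : Subgroup G) (hH : Cfsg.IsCarterSubgroup H)
    (hK : Cfsg.IsCarterSubgroup K) : ∃ g : G, K = H.map (MulAut.conj g).toMonoidHom :=
  s3852_inp
    { known := known
      fpf := fpf
      ft := ft
      exc := Cfsg.Agent.H460.Car.excOk
      omega := fun G _ _ S _ c r hr hr2 h =>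
        Cfsg.Agent.H502.Car.nrAll_pomega fpf (Cfsg.Agent.H55.CO.frameO fpf) (Cfsg.Agent.H55.CO.frameTs fpf) hr hr2 c h
      spor := spor
      tits := tits
      e6 := fun G _ _ S _ c IH F _ _ e => Cfsg.Agent.H308.Car.e6_field fpf ft Cfsg.Agent.H460.Car.excOk G S c IH F e
      te6 := fun G _ _ S _ c IH K _ _ q hq hK e =>
        Cfsg.Agent.H308.Car.te6_field fpf ft Cfsg.Agent.H460.Car.excOk G S c IH K q hq hK e }
    H K hH hK

end Cfsg.Agent.H18.Carter
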