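import Cfsg.Agent.H18.Carter.Ctx

/-!
# `Ctx G S` from one Carter subgroup `K` with `K S = G`
-/

set_option autoImplicit false

namespace Cfsg.Agent.H18.Carter

open Subgroup Pointwise
open Cfsg.Agent.Solvable.Carter

universe u

/-- one Carter subgroup with `K S = G` and the conjugacy theorem for all smaller groups give `Ctx`. -/
theorem Ctx.of_carter {G : Type u} [Group G] [Finite G] {S K : Subgroup G} [S.Normal] (hs : IsSimpleGroup S)
    (na : ¬ ∀ a b : S, a * b = b * a) (cen : centralizer (S : Set G) = ⊥)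
    (min : ∀ (B : Type u) [Group B] [Finite B], Nat.card B < Nat.card G → CC B) (hK : IsCarter K)
    (prod : K ⊔ S = ⊤) : Ctx G S := by
  have hsurj := QuotientGroup.mk'_surjective S
  have hKn := hK.1
  have hnil : Group.IsNilpotent (G ⧸ S) := by
    have h4 : Function.Surjective ((QuotientGroup.mk' S).comp K.subtype) := by
      intro y
      have hm : K.map (QuotientGroup.mk' S) = ⊤ := by
        have h5 : (K ⊔ S).map (QuotientGroup.mk' S) = ⊤ := by
          rw [prod, map_top_of_surjective _ hsurj]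
        rw [Subgroup.map_sup] at h5
        have h6 : S.map (QuotientGroup.mk' S) = ⊥ := by
          rw [Subgroup.map_eq_bot_iff, QuotientGroup.ker_mk']
        rwa [h6, sup_bot_eq] at h5
      have : y ∈ K.map (QuotientGroup.mk' S) := by rw [hm]; trivial
      obtain ⟨x, hx, rfl⟩ := this
      exact ⟨⟨x, hx⟩, rfl⟩
    exact Group.nilpotent_of_surjective _ h4
  refine ⟨hs, na, cen, hnil, fun C hC => ?_, min⟩
  have h1 : IsCarter (C.map (QuotientGroup.mk' S)) :=
    hC.map hsurj fun H hH => min H (Cfsg.Agent.Lib.SolvableNormalP.card_lt_of_ne_top hH)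
  have h2 := h1.eq_top
  rw [eq_top_iff]
  intro x _
  have h3 : QuotientGroup.mk' S x ∈ C.map (QuotientGroup.mk' S) := by rw [h2]; trivial
  obtain ⟨y, hy, e⟩ := h3
  have h4 : y⁻¹ * x ∈ S := QuotientGroup.eq.1 e
  have := mul_mem (mem_sup_left hy : y ∈ C ⊔ S) (mem_sup_right h4 : y⁻¹ * x ∈ C ⊔ S)
  rwa [mul_inv_cancel_left] at this

end Cfsg.Agent.H18.Carter
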