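import Cfsg.Agent.H18.Carter.Pass2

/-!
# PASS: simplicity of the socle, divisibility
-/

set_option autoImplicit false
set_option linter.unusedSectionVars false
set_option linter.unusedVariables false

namespace Cfsg.Agent.H18.Carter

open Subgroup Pointwise
open Cfsg.Agent.Solvable.Carter
open scoped commutatorElement

universe u

variable {G : Type u} [Group G]

theorem PassD.simple {K E : Subgroup G} {B : Type u} [Group B] {S R : Subgroup B} {f : ↥(DD K E) →* B}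
    (h : PassD K E B S R f) (hs : IsSimpleGroup (↥E ⧸ center ↥E)) : IsSimpleGroup ↥S := by
  obtain ⟨e⟩ := h.equiv
  have : Nontrivial ↥S := e.symm.toEquiv.nontrivial
  exact IsSimpleGroup.isSimpleGroup_of_surjective e.toMonoidHom e.surjective

theorem PassD.na {K E : Subgroup G} {B : Type u} [Group B] {S R : Subgroup B} {f : ↥(DD K E) →* B}
    (h : PassD K E B S R f) (hE : ⁅E, E⁆ = E) (hE1 : E ≠ ⊥) : ¬ ∀ a b : ↥S, a * b = b * a := by
  intro hab
  have h1 : ⁅E, E⁆ ≤ centralizer (E : Set G) := by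
    rw [commutator_le]
    intro x hx y hy
    have hx' : f ⟨x, le_DD _ _ hx⟩ ∈ S := (h.S_iff _).2 ⟨_, hx, rfl⟩
    have hy' : f ⟨y, le_DD _ _ hy⟩ ∈ S := (h.S_iff _).2 ⟨_, hy, rfl⟩
    have h2 := congrArg Subtype.val (hab ⟨_, hx'⟩ ⟨_, hy'⟩)
    have h3 : f ⁅(⟨x, le_DD _ _ hx⟩ : DD K E), ⟨y, le_DD _ _ hy⟩⁆ = 1 := by
      rw [map_commutatorElement, commutatorElement_eq_one_iff_mul_comm]
      exact h2
    exact (h.ker _).1 h3
  rw [hE] at h1
  apply hE1
  rw [← hE]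
  exact commutator_eq_bot_iff_le_centralizer.2 h1

/-- elements of `K ∩ E C(E)` -/
theorem PassD.mem_inf {K E : Subgroup G} {B : Type u} [Group B] {S R : Subgroup B} {f : ↥(DD K E) →* B}
    (h : PassD K E B S R f) {x : G} (hx : x ∈ K) (hxn : x ∈ normalizer (E : Set G))
    (hxE : x ∈ E ⊔ centralizer (E : Set G)) : f ⟨x, inf_le_DD _ _ ⟨hx, hxn⟩⟩ ∈ R ⊓ S := by
  refine Subgroup.mem_inf.2 ⟨(h.R_iff _).2 ⟨_, hx, rfl⟩, ?_⟩
  obtain ⟨e, he, z, hz, rfl⟩ := mul_mem_of_norm (centralizer_le_normalizer _) hxE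
  refine (h.S_iff _).2 ⟨⟨e, le_DD _ _ he⟩, he, ?_⟩
  have hzD : z ∈ DD K E := by
    have := mul_mem (inv_mem (le_DD K E he)) (inf_le_DD _ _ ⟨hx, hxn⟩)
    rwa [inv_mul_cancel_left] at this
  have h1 : f ⟨z, hzD⟩ = 1 := (h.ker _).2 hz
  have h2 : (⟨e * z, inf_le_DD _ _ ⟨hx, hxn⟩⟩ : DD K E) = ⟨e, le_DD _ _ he⟩ * ⟨z, hzD⟩ := rfl
  rw [h2, map_mul, h1, mul_one]

/-- **Divisibility.** -/
theorem Comps.dvd [Finite G] {K : Subgroup G} {m : ℕ} (c : Comps G K m) {i : Fin m} {B : Type u} [Group B] [Finite B]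
    {S R : Subgroup B} {f : ↥(DD K (c.E i)) →* B} (h : PassD K (c.E i) B S R f) {r : ℕ} (hr : r.Prime)
    (hd : r ∣ Nat.card ↥(K ⊓ c.N)) :
    r ∣ Nat.card ↥(R ⊓ S) ∨ r ∣ Nat.card ↥(c.N ⊓ centralizer (c.N : Set G) : Subgroup G) := by
  have : Fact r.Prime := ⟨hr⟩
  obtain ⟨x, hx⟩ := exists_prime_orderOf_dvd_card' r hd
  have hxo : orderOf (x : G) = r := by rw [← hx]; exact (Subgroup.orderOf_coe x)
  have hxK : (x : G) ∈ K := x.2.1
  have hxN : (x : G) ∈ c.N := x.2.2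
  have hN : ∀ j, c.N ≤ c.E j ⊔ centralizer (c.E j : Set G) := by
    intro j
    refine iSup_le fun j' => ?_
    by_cases hj : j = j'
    · rw [hj]; exact le_sup_left
    · exact (c.E_le_cent hj).trans le_sup_right
  by_cases hall : ∀ k ∈ K, k * (x : G) * k⁻¹ ∈ centralizer (c.E i : Set G)
  · right
    have h1 : (x : G) ∈ centralizer (c.N : Set G) := by
      rw [c.mem_cent_N]
      intro j
      obtain ⟨k, hk, hj⟩ := c.trans j i
      have h2 := hall k hk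
      rw [← hj, ← cj_centralizer, mem_cj] at h2
      have e : k⁻¹ * (k * (x : G) * k⁻¹) * k = x := by group
      rwa [e] at h2
    rw [← hxo, ← Subgroup.orderOf_mk (x : G) (Subgroup.mem_inf.2 ⟨hxN, h1⟩ : (x : G) ∈ c.N ⊓ centralizer (c.N : Set G))]
    exact orderOf_dvd_natCard _
  · left
    push Not at hall
    obtain ⟨k, hk, hkx⟩ := hall
    have hyK : k * (x : G) * k⁻¹ ∈ K := mul_mem (mul_mem hk hxK) (inv_mem hk)
    have hyN : k * (x : G) * k⁻¹ ∈ c.N := (mem_normalizer_iff.1 (c.K_norm hk) _).1 hxN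
    have hyn := c.N_norm i hyN
    have h1 := h.mem_inf hyK hyn (hN i hyN)
    have h2 : f ⟨k * (x : G) * k⁻¹, inf_le_DD _ _ ⟨hyK, hyn⟩⟩ ≠ 1 := fun h3 => hkx ((h.ker _).1 h3)
    have h3 : (⟨k * (x : G) * k⁻¹, inf_le_DD _ _ ⟨hyK, hyn⟩⟩ : DD K (c.E i)) ^ r = 1 := by
      apply Subtype.ext
      show (k * (x : G) * k⁻¹) ^ r = 1
      rw [conj_pow, ← hxo, pow_orderOf_eq_one, mul_one, mul_inv_cancel]
    have h4 : orderOf (f ⟨k * (x : G) * k⁻¹, inf_le_DD _ _ ⟨hyK, hyn⟩⟩) = r := by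
      apply orderOf_eq_prime
      · rw [← map_pow, h3, map_one]
      · exact h2
    rw [← h4, ← Subgroup.orderOf_mk _ h1]
    exact orderOf_dvd_natCard _

/-- one component -/
def Comps.single {K E : Subgroup G} (hE : ⁅E, E⁆ = E) (hE1 : E ≠ ⊥) (hK : K ≤ normalizer (E : Set G)) : Comps G K 1 where
  E := fun _ => E
  perf := fun _ => hE
  ne := fun _ => hE1
  comm := fun i j hij => absurd (Subsingleton.elim i j) hij
  perm := fun k hk i => ⟨0, cj_eq_self_iff.2 (hK hk)⟩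
  trans := fun i j => ⟨1, one_mem _, cj_one _⟩

theorem Comps.single_N {K E : Subgroup G} (hE : ⁅E, E⁆ = E) (hE1 : E ≠ ⊥) (hK : K ≤ normalizer (E : Set G)) :
    (Comps.single hE hE1 hK).N = E := by
  show (⨆ _ : Fin 1, E) = E
  exact ciSup_const

end Cfsg.Agent.H18.Carter
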