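import Cfsg.Agent.H18.Carter.Key

/-!
# Conjugacy of Carter subgroups: reduction to almost simple groups
-/

set_option autoImplicit false
set_option linter.unusedSectionVars false
set_option linter.unusedVariables false

namespace Cfsg.Agent.H18.Carter

open Subgroup Pointwise
open Cfsg.Agent.Solvable.Carter
open scoped commutatorElement

universe u

variable {G : Type u} [Group G]

namespace Cfg

variable {m : ℕ} (c : Cfg G m)

theorem conj_of [Finite G] (hmin : ∀ i, CC (c.A i)) {C D : Subgroup G} (hC : IsCarter C) (hD : IsCarter D)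
    (hCN : C ⊔ c.N = ⊤) (hDN : D ⊔ c.N = ⊤) : ∃ g : G, MulAut.conj g • C = D := by
  have hs : ∀ i, ∃ s ∈ c.T i, MulAut.conj s • Y C (c.T i) = Y D (c.T i) := by
    intro i
    obtain ⟨a, ha⟩ := hmin i (c.im C i) (c.im D i) (c.carter_im hC hCN i) (c.carter_im hD hDN i)
    obtain ⟨g, rfl⟩ := QuotientGroup.mk'_surjective _ a
    obtain ⟨s, hs, y, hy, e⟩ := c.norm_decomp hCN i g.2
    refine ⟨s, hs, ?_⟩
    have h1 : MulAut.conj s • Y C (c.T i) = MulAut.conj (g : G) • Y C (c.T i) := by
      rw [e, ← cj_cj, cj_self hy]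
    rw [h1]
    ext x
    have h2 : ∀ hx : x ∈ normalizer (c.T i : Set G), x ∈ MulAut.conj (g : G) • Y C (c.T i) ↔ x ∈ Y D (c.T i) := by
      intro hx
      have h3 : x ∈ Y D (c.T i) ↔ c.pr i ⟨x, hx⟩ ∈ c.im D i := (c.mem_im (x := ⟨x, hx⟩)).symm
      have h4 : x ∈ MulAut.conj (g : G) • Y C (c.T i) ↔ c.pr i (g⁻¹ * ⟨x, hx⟩ * g) ∈ c.im C i := by
        rw [mem_cj, c.mem_im]; rfl
      rw [h3, h4, ← ha, mem_cj, map_mul, map_mul, map_inv]
    by_cases hx : x ∈ normalizer (c.T i : Set G)
    · exact h2 hx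
    · constructor
      · intro h3
        exfalso
        apply hx
        have h4 := mul_mem (mul_mem g.2 (Y_le_norm _ _ (mem_cj.1 h3))) (inv_mem g.2)
        have e : (g : G) * ((g : G)⁻¹ * x * g) * (g : G)⁻¹ = x := by group
        rwa [e] at h4
      · intro h3
        exact absurd (Y_le_norm _ _ h3) hx
  choose s hsT hsY using hs
  obtain ⟨n, hnN, hn⟩ := c.spread s hsT
  have hC' := hC.conj n
  have hY : ∀ i, Y (MulAut.conj n • C) (c.T i) = Y D (c.T i) := by
    intro i
    have h1 : MulAut.conj n • c.T i = c.T i := cj_eq_self_iff.2 (c.nT i hnN)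
    calc Y (MulAut.conj n • C) (c.T i) = Y (MulAut.conj n • C) (MulAut.conj n • c.T i) := by rw [h1]
      _ = MulAut.conj n • Y C (c.T i) := (cj_Y _ _ _).symm
      _ = MulAut.conj (s i) • Y C (c.T i) := (cj_eq_of_mod (cent_le_Y _ _) (hn i)).symm
      _ = Y D (c.T i) := hsY i
  let M : Subgroup G :=
    { carrier := {g | ∀ i, MulAut.conj g • Y D (c.T i) = Y D (MulAut.conj g • c.T i)}
      one_mem' := fun i => by rw [cj_one, cj_one]
      mul_mem' := by
        intro a b ha hb i
        obtain ⟨j, hj⟩ := c.perm b i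
        rw [← cj_cj, ← cj_cj, hb i, hj, ha j]
      inv_mem' := by
        intro a ha i
        obtain ⟨j, hj⟩ := c.perm a⁻¹ i
        have h1 : MulAut.conj a • c.T j = c.T i := by rw [← hj, cj_cj, mul_inv_cancel, cj_one]
        have h2 := ha j
        rw [h1] at h2
        rw [hj, ← h2, cj_cj, inv_mul_cancel, cj_one] }
  have hDM : D ≤ M := by
    intro g hg i
    rw [cj_Y, cj_self hg]
  have hCM : MulAut.conj n • C ≤ M := by
    intro g hg i
    obtain ⟨j, hj⟩ := c.perm g i
    rw [← hY i, cj_Y, cj_self hg, hj, hY j]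
  have hDs : Group.IsSolvable D := by
    have := hD.1
    infer_instance
  have hMs : Group.IsSolvable M := c.solvable hDs fun x hx hxN i => by
    refine c.key' hD hDN i (c.nT i hxN) ?_
    rw [hx i, cj_eq_self_iff.2 (c.nT i hxN)]
  obtain ⟨g, -, hg⟩ := exists_conj_of_le (CC.of_solvable hMs) hC' hD hCM hDM
  exact ⟨g * n, by rw [← cj_cj]; exact hg⟩

theorem card_A [Finite G] {i j : Fin m} (hij : i ≠ j) : Nat.card (c.A i) < Nat.card G := by
  have h1 : Nat.card (c.A i) < Nat.card ↥(normalizer (c.T i : Set G)) := by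
    refine Cfsg.Agent.Lib.SolvableNormalP.card_quotient_lt ?_
    intro h
    apply c.ne j
    rw [eq_bot_iff]
    intro x hx
    have hx2 : x ∈ centralizer (c.T i : Set G) := c.T_le_cent hij hx
    have h2 : (⟨x, centralizer_le_normalizer _ hx2⟩ : ↥(normalizer (c.T i : Set G))) ∈
        (centralizer (c.T i : Set G)).subgroupOf (normalizer (c.T i : Set G)) := hx2
    rw [h, mem_bot] at h2
    rw [mem_bot]
    exact congrArg Subtype.val h2
  exact h1.trans_le (Subgroup.card_le_card_group _)

end Cfg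

theorem comm_le {A B : Subgroup G} (h : A ≤ normalizer (B : Set G)) : ⁅A, B⁆ ≤ B := by
  rw [commutator_le]
  intro a ha b hb
  rw [commutatorElement_def]
  exact mul_mem ((mem_normalizer_iff.1 (h ha) b).1 hb) (inv_mem hb)

/-- a minimal normal subgroup gives a configuration -/
theorem exists_cfg [Finite G] (N : Subgroup G) [hN : N.Normal] (hN1 : N ≠ ⊥)
    (hmin : ∀ M : Subgroup G, M.Normal → M ≤ N → M = ⊥ ∨ M = N) (hcen : centralizer (N : Set G) = ⊥)
    (hsol : Group.IsSolvable (G ⧸ N)) :
    ∃ (m : ℕ) (c : Cfg G m), 0 < m ∧ c.N = N ∧ (∀ i, IsSimpleGroup (c.T i)) ∧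
      ∀ i, ¬ ∀ a b : c.T i, a * b = b * a := by
  obtain ⟨m, T, hm, hTN, hsimple, hNT, hconj, hcomm, hinj, -, hsup⟩ :=
    Cfsg.Agent.Lib.MinNormal.exists_internal_decomposition N hN1 hmin
  have hne : ∀ i, T i ≠ ⊥ := fun i h => by
    have h1 := (hsimple i).toNontrivial
    rw [← Subgroup.nontrivial_iff_ne_bot] at *
    exact absurd h ((Subgroup.nontrivial_iff_ne_bot _).1 h1)
  have hz : ∀ i, T i ⊓ centralizer (T i : Set G) = ⊥ := by
    intro i
    rw [eq_bot_iff, ← hcen]
    rintro x ⟨hx, hxc⟩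
    have h2 : N ≤ centralizer ({x} : Set G) := by
      rw [← hsup]
      refine iSup_le fun j y hy => ?_
      rw [mem_centralizer_singleton_iff]
      by_cases hij : i = j
      · subst hij; exact hxc y hy
      · exact ((hcomm i j hij x hx y hy).eq).symm
    intro y hy
    have := h2 hy
    rw [mem_centralizer_singleton_iff] at this
    exact this
  have hperm : ∀ (g : G) (i : Fin m), ∃ j, MulAut.conj g • T i = T j := by
    intro g i
    by_contra hcon
    push Not at hcon
    set X := MulAut.conj g • T i with hX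
    have hXN : X ≤ N := by
      rw [← cj_normal g hN, hX]
      exact Subgroup.pointwise_smul_le_pointwise_smul_iff.2 (hTN i)
    have hNX : N ≤ normalizer (X : Set G) := by
      rw [← cj_normal g hN, hX, ← cj_normalizer]
      exact Subgroup.pointwise_smul_le_pointwise_smul_iff.2 (hNT i)
    have hXs : IsSimpleGroup X := by
      have e : T i ≃* X := (T i).equivMapOfInjective (MulAut.conj g).toMonoidHom (MulAut.conj g).injective
      have := hsimple i
      have : Nontrivial X := e.symm.toEquiv.nontrivial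
      exact IsSimpleGroup.isSimpleGroup_of_surjective (H := X) e.toMonoidHom e.surjective
    have hdis : ∀ j, X ⊓ T j = ⊥ := by
      intro j
      by_contra hne'
      apply hcon j
      have key : ∀ A B : Subgroup G, IsSimpleGroup A → A ≤ N → N ≤ normalizer (B : Set G) → A ⊓ B ≠ ⊥ → A ≤ B := by
        intro A B hA hAN hNB hAB
        have h1 : ((A ⊓ B).subgroupOf A).Normal := by
          rw [inf_subgroupOf_left]
          exact normal_subgroupOf_of_le_normalizer (hAN.trans hNB)
        rcases hA.eq_bot_or_eq_top_of_normal _ h1 with h | h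
        · exact absurd ((subgroupOf_eq_bot.1 h).eq_bot_of_le inf_le_left) hAB
        · exact (subgroupOf_eq_top.1 h).trans inf_le_right
      refine le_antisymm (key _ _ hXs hXN (hNT j) hne') (key _ _ (hsimple j) (hTN j) hNX ?_)
      rwa [inf_comm]
    have h1 : X ≤ centralizer (N : Set G) := by
      have h2 : N ≤ centralizer (X : Set G) := by
        rw [← hsup]
        refine iSup_le fun j => ?_
        rw [← Subgroup.commutator_eq_bot_iff_le_centralizer, eq_bot_iff, ← hdis j]
        refine le_inf ?_ ?_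
        · exact comm_le ((hTN j).trans hNX)
        · rw [Subgroup.commutator_comm]
          exact comm_le (hXN.trans (hNT j))
      exact Subgroup.le_centralizer_iff.1 h2
    rw [hcen, le_bot_iff] at h1
    have h2 := (Subgroup.nontrivial_iff_ne_bot _).1 hXs.toNontrivial
    exact h2 h1
  refine ⟨m, ⟨N, T, hN, hTN, hne, hNT, fun i j hij x hx y hy => hcomm i j hij x hx y hy, hsup, hcen, hz, hperm, ?_, hsol⟩, hm, rfl,
    hsimple, ?_⟩
  · intro i j
    obtain ⟨g, hg⟩ := hconj i j
    exact ⟨g, hg.symm⟩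
  · intro i h
    apply hne i
    rw [eq_bot_iff, ← hz i]
    intro x hx
    exact ⟨hx, fun y hy => congrArg Subtype.val (h ⟨y, hy⟩ ⟨x, hx⟩)⟩

/-- **reduction to almost simple groups** -/
theorem reduction
    (row : ∀ (G : Type u) [Group G] [Finite G] (S : Subgroup G) [S.Normal], IsSimpleGroup S → (¬ ∀ a b : S, a * b = b * a) →
      centralizer (S : Set G) = ⊥ → Group.IsNilpotent (G ⧸ S) → (∀ C : Subgroup G, IsCarter C → C ⊔ S = ⊤) →
      (∀ (B : Type u) [Group B] [Finite B], Nat.card B < Nat.card G → CC B) → CC G) :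
    ∀ (G : Type u) [Group G] [Finite G], CC G := by
  refine Cfsg.Agent.Lib.SolvableNormalP.card_strong_induction (motive := fun G _ _ => CC G) ?_
  intro G _ _ IH
  by_contra hCC
  have hCC' := hCC
  unfold CC at hCC'
  push Not at hCC'
  obtain ⟨C₀, D₀, hC₀, hD₀, hnc⟩ := hCC'
  have hnsol : ¬ Group.IsSolvable G := fun h => hCC (CC.of_solvable h)
  have hnt : Nontrivial G := by
    by_contra h
    rw [not_nontrivial_iff_subsingleton] at h
    exact hnsol inferInstance
  have IHsub : ∀ H : Subgroup G, H ≠ ⊤ → CC H := fun H hH => IH H (Cfsg.Agent.Lib.SolvableNormalP.card_lt_of_ne_top hH)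
  -- products with normal subgroups
  have hprod : ∀ N : Subgroup G, N.Normal → N ≠ ⊥ → ∀ C : Subgroup G, IsCarter C → C ⊔ N = ⊤ := by
    intro N hN hNb
    have hq : CC (G ⧸ N) := IH _ (Cfsg.Agent.Lib.SolvableNormalP.card_quotient_lt hNb)
    have hsurj := QuotientGroup.mk'_surjective N
    have step : ∀ C D : Subgroup G, IsCarter C → IsCarter D → D ⊔ N ≠ ⊤ → ∃ g : G, MulAut.conj g • C = D := by
      intro C D hC hD hne
      obtain ⟨a, ha⟩ := hq _ _ (hC.map hsurj fun H hH => IHsub H hH) (hD.map hsurj fun H hH => IHsub H hH)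
      obtain ⟨g, rfl⟩ := hsurj a
      have h1 : MulAut.conj g • C ≤ D ⊔ N := by
        intro x hx
        have h2 : QuotientGroup.mk' N x ∈ D.map (QuotientGroup.mk' N) := by
          rw [← ha, mem_cj, ← map_inv, ← map_mul, ← map_mul]
          exact mem_map_of_mem _ (mem_cj.1 hx)
        obtain ⟨d, hd, e⟩ := h2
        have h3 : d⁻¹ * x ∈ N := QuotientGroup.eq.1 e
        have := mul_mem (mem_sup_left hd : d ∈ D ⊔ N) (mem_sup_right h3 : d⁻¹ * x ∈ D ⊔ N)
        rwa [mul_inv_cancel_left] at this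
      obtain ⟨h, -, hh⟩ := exists_conj_of_le (IHsub _ hne) (hC.conj g) hD h1 le_sup_left
      exact ⟨h * g, by rw [← cj_cj]; exact hh⟩
    intro C hC
    by_contra hne
    obtain ⟨g, hg⟩ := step C₀ C hC₀ hC hne
    obtain ⟨h, hh⟩ := step D₀ C hD₀ hC hne
    apply hnc (h⁻¹ * g)
    rw [← cj_cj, hg, ← hh, cj_cj, inv_mul_cancel, cj_one]
  have hquot : ∀ N : Subgroup G, ∀ hN : N.Normal, N ≠ ⊥ → Group.IsNilpotent (G ⧸ N) := by
    intro N hN hNb
    have h1 := hprod N hN hNb C₀ hC₀
    have h2 := hC₀.1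
    have h3 : (C₀.map (QuotientGroup.mk' N)) = ⊤ := by
      have h4 : (C₀ ⊔ N).map (QuotientGroup.mk' N) = ⊤ := by
        rw [h1, map_top_of_surjective _ (QuotientGroup.mk'_surjective N)]
      rw [Subgroup.map_sup] at h4
      have h5 : N.map (QuotientGroup.mk' N) = ⊥ := by
        rw [Subgroup.map_eq_bot_iff, QuotientGroup.ker_mk']
      rwa [h5, sup_bot_eq] at h4
    have h4 : Function.Surjective ((QuotientGroup.mk' N).comp C₀.subtype) := by
      intro y
      have : y ∈ C₀.map (QuotientGroup.mk' N) := by rw [h3]; trivial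
      obtain ⟨x, hx, rfl⟩ := this
      exact ⟨⟨x, hx⟩, rfl⟩
    exact Group.nilpotent_of_surjective _ h4
  -- a minimal normal subgroup
  obtain ⟨N, hNb, hNle, hNmin⟩ : ∃ N : Subgroup G, N ≠ ⊥ ∧ N.Normal ∧ ∀ M : Subgroup G, M.Normal → M ≤ N → M = ⊥ ∨ M = N := by
    classical
    obtain ⟨N, ⟨hN1, hN2⟩, hmin⟩ := (Set.toFinite {N : Subgroup G | N.Normal ∧ N ≠ ⊥}).exists_minimal
      ⟨⊤, inferInstance, top_ne_bot⟩
    refine ⟨N, hN2, hN1, fun M hM hle => ?_⟩
    by_cases hMb : M = ⊥
    · exact Or.inl hMb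
    · exact Or.inr (le_antisymm hle (hmin ⟨hM, hMb⟩ hle))
  have hNn : N.Normal := hNle
  have hqN := hquot N hNn hNb
  have hna : ¬ ∀ a ∈ N, ∀ b ∈ N, a * b = b * a := by
    intro h
    apply hnsol
    rw [Group.isSolvable_iff_subgroup_quotient N]
    refine ⟨Group.isSolvable_of_comm fun a b => Subtype.ext (h a a.2 b b.2), ?_⟩
    infer_instance
  have hcenN : N ⊓ centralizer (N : Set G) = ⊥ := by
    have h1 : (N ⊓ centralizer (N : Set G)).Normal := inferInstance
    refine (hNmin _ h1 inf_le_left).resolve_right fun h => hna ?_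
    intro a ha b hb
    rw [← h] at ha
    exact (ha.2 b hb).symm
  have hcen : centralizer (N : Set G) = ⊥ := by
    by_contra hcb
    have h1 : Group.IsNilpotent (G ⧸ centralizer (N : Set G)) := hquot _ inferInstance hcb
    -- `N` embeds
    have hinj : Function.Injective ((QuotientGroup.mk' (centralizer (N : Set G))).comp N.subtype) := by
      rw [injective_iff_map_eq_one]
      intro x hx
      have h2 : (x : G) ∈ centralizer (N : Set G) := (QuotientGroup.eq_one_iff _).1 hx
      have h3 : (x : G) ∈ N ⊓ centralizer (N : Set G) := ⟨x.2, h2⟩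
      rw [hcenN, mem_bot] at h3
      exact Subtype.ext h3
    have hNnil : Group.IsNilpotent N := by
      have e := MonoidHom.ofInjective hinj
      exact Group.nilpotent_of_mulEquiv e.symm
    apply hnsol
    rw [Group.isSolvable_iff_subgroup_quotient N]
    exact ⟨inferInstance, inferInstance⟩
  obtain ⟨m, c, hm, hcN, hsimple, hnab⟩ := exists_cfg N hNb hNmin hcen inferInstance
  by_cases hm1 : m = 1
  · -- almost simple
    subst hm1
    have hTN : c.T 0 = N := by
      rw [← hcN, ← c.sup]
      refine le_antisymm (le_iSup c.T 0) (iSup_le fun i => ?_)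
      rw [Subsingleton.elim i 0]
    have hs := hsimple 0
    have hn := hnab 0
    rw [hTN] at hs hn
    exact hCC (row G N hs hn hcen hqN (fun C hC => hprod N hNn hNb C hC) fun B _ _ hB => IH B hB)
  · refine hCC fun C D hC hD => c.conj_of (fun i => ?_) hC hD (by rw [hcN]; exact hprod N hNn hNb C hC)
      (by rw [hcN]; exact hprod N hNn hNb D hD)
    obtain ⟨j, hj⟩ : ∃ j : Fin m, i ≠ j := by
      have : Nontrivial (Fin m) := Fin.nontrivial_iff_two_le.2 (by omega)
      obtain ⟨j, hj⟩ := exists_ne i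
      exact ⟨j, hj.symm⟩
    exact IH _ (c.card_A hj)

end Cfsg.Agent.H18.Carter
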