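import Cfsg.Agent.H607.Car.E6Def
import Cfsg.Agent.H308.Car.NoSix
import Cfsg.Agent.H381.Car.EvenOne
import Cfsg.Agent.H18.Carter.Frame
import Cfsg.Agent.H460.Car.Two
import Cfsg.Agent.Lib.NilpotentCoprime

/-!
# S3852: the rows `E₆(q)`, `²E₆(q)`, `q` odd, from the statements of `H607/Car/E6Def`
-/

set_option autoImplicit false
set_option linter.unusedSectionVars false
set_option linter.unusedVariables false
set_option linter.style.haveILetI false

namespace Cfsg.Agent.H18.Carter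

open Subgroup Pointwise
open Cfsg.Agent.Solvable.Carter Cfsg.Agent.H381.Car Cfsg.Agent.H607.Car

universe u

/-- the decomposition into a `2`-element and an element of odd order -/
theorem exists_two_odd {G : Type*} [Group G] [Finite G] (k : G) : ∃ a ∈ zpowers k, ∃ b ∈ zpowers k, k = a * b ∧
    (∃ s : ℕ, a ^ 2 ^ s = 1) ∧ Odd (orderOf b) := by
  obtain ⟨s, m, hm, hn⟩ := Nat.exists_eq_two_pow_mul_odd (n := orderOf k) (orderOf_pos k).ne'
  have hco : Nat.Coprime (2 ^ s) m := Nat.Coprime.pow_left _ (Nat.coprime_two_left.2 hm)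
  have hb := Nat.isCoprime_iff_coprime.2 hco
  obtain ⟨u, v, huv⟩ := hb
  refine ⟨k ^ (v * (m : ℤ)), zpow_mem (mem_zpowers k) _, k ^ (u * ((2 ^ s : ℕ) : ℤ)), zpow_mem (mem_zpowers k) _, ?_, ⟨s, ?_⟩,
    ?_⟩
  · rw [← zpow_add, add_comm, huv, zpow_one]
  · rw [← zpow_natCast, ← zpow_mul]
    have e : v * (m : ℤ) * ((2 ^ s : ℕ) : ℤ) = (orderOf k : ℤ) * v := by rw [hn]; push_cast; ring
    rw [e, zpow_mul, zpow_natCast, pow_orderOf_eq_one, one_zpow]
  · have h1 : (k ^ (u * ((2 ^ s : ℕ) : ℤ))) ^ m = 1 := by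
      rw [← zpow_natCast, ← zpow_mul]
      have e : u * ((2 ^ s : ℕ) : ℤ) * (m : ℤ) = (orderOf k : ℤ) * u := by rw [hn]; push_cast; ring
      rw [e, zpow_mul, zpow_natCast, pow_orderOf_eq_one, one_zpow]
    exact Odd.of_dvd_nat hm (orderOf_dvd_of_pow_eq_one h1)

section

variable {G : Type u} [Group G] [Finite G] {S : Subgroup G} [S.Normal]

/-- If the elements of odd order of `K` commute with an involution of `S`, then `|K ∩ S|` is even. -/
theorem even_of_comm {K : Subgroup G} (hK : IsCarter K) {a : G} (haS : a ∈ S) (ha : orderOf a = 2)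
    (h : ∀ k ∈ K, Odd (orderOf k) → k * a = a * k) : 2 ∣ Nat.card ↥(K ⊓ S) := by
  haveI := hK.1
  haveI : Fact (Nat.Prime 2) := ⟨Nat.prime_two⟩
  obtain ⟨P⟩ : Nonempty (Sylow 2 K) := inferInstance
  have hPn : (P : Subgroup K).Normal := by
    have h := ((Group.isNilpotent_of_finite_tfae (G := K)).out 0 3).mp hK.1
    exact h 2 inferInstance P
  -- the `2`-elements of `K` lie in `P`
  have hP2 : ∀ x : K, (∃ s : ℕ, x ^ 2 ^ s = 1) → x ∈ (P : Subgroup K) := by
    rintro x ⟨s, hs⟩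
    have h1 : IsPGroup 2 (zpowers x) := by
      refine IsPGroup.of_card_dvd_pow (n := s) ?_
      rw [Nat.card_zpowers]
      exact orderOf_dvd_of_pow_eq_one hs
    obtain ⟨R', hR'⟩ := h1.exists_le_sylow
    obtain ⟨g, hg⟩ := MulAction.exists_smul_eq K P R'
    have h2 : (x : K) ∈ (R' : Subgroup K) := hR' (mem_zpowers _)
    rw [← hg, Sylow.coe_subgroup_smul, mem_conj_smul_iff] at h2
    have := hPn.conj_mem _ h2 g
    simpa [mul_assoc] using this
  obtain ⟨C, hC⟩ : ∃ C : Subgroup G, C = centralizer {k : G | k ∈ K ∧ Odd (orderOf k)} := ⟨_, rfl⟩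
  have hmC : ∀ x : G, x ∈ C ↔ ∀ k ∈ K, Odd (orderOf k) → k * x = x * k := by
    intro x
    rw [hC, mem_centralizer_iff]
    exact ⟨fun h k hk ho => h k ⟨hk, ho⟩, fun h k hk => h k hk.1 hk.2⟩
  obtain ⟨P0, hP0⟩ : ∃ P0 : Subgroup G, P0 = (P : Subgroup K).map K.subtype := ⟨_, rfl⟩
  have hP0K : P0 ≤ K := by rw [hP0]; exact map_subtype_le _
  have hP0p : IsPGroup 2 P0 := by rw [hP0]; exact P.2.map _
  have hP0C : P0 ≤ C := by
    intro x hx
    rw [hmC]
    intro k hk ho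
    obtain ⟨s, hs⟩ := IsPGroup.iff_orderOf.1 hP0p ⟨x, hx⟩
    have h1 : Commute (⟨k, hk⟩ : K) ⟨x, hP0K hx⟩ := by
      refine Cfsg.Agent.Lib.NilpotentCoprime.commute_of_coprime_orderOf ?_
      rw [Subgroup.orderOf_mk, Subgroup.orderOf_mk]
      rw [Subgroup.orderOf_mk] at hs
      rw [hs]
      exact Nat.Coprime.pow_right _ (Nat.coprime_two_right.2 ho)
    exact congrArg Subtype.val h1.eq
  have hP02 : ∀ x ∈ K, (∃ s : ℕ, x ^ 2 ^ s = 1) → x ∈ P0 := by
    rintro x hx ⟨s, hs⟩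
    rw [hP0]
    exact ⟨⟨x, hx⟩, hP2 ⟨x, hx⟩ ⟨s, Subtype.ext hs⟩, rfl⟩
  -- `P0` is a Sylow `2`-subgroup of `C`
  have hp1 : IsPGroup 2 (P0.subgroupOf C) := hP0p.comap_of_injective C.subtype C.subtype_injective
  obtain ⟨T, hT⟩ := hp1.exists_le_sylow
  have hTle : (T : Subgroup C) = P0.subgroupOf C := by
    by_contra hne
    obtain ⟨x, hxT, hxP, hxN⟩ := Cfsg.Agent.H460.Car.exists_normalizing T.2 (lt_of_le_of_ne hT (Ne.symm hne))
    have hxK : (x : G) ∈ normalizer (K : Set G) := by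
      refine mem_normalizer_fintype fun k hk => ?_
      rw [SetLike.mem_coe] at hk ⊢
      obtain ⟨a, ha, b, hb, hab, ⟨s, hs⟩, hbo⟩ := exists_two_odd k
      have haK : a ∈ K := (zpowers_le.2 hk) ha
      have hbK : b ∈ K := (zpowers_le.2 hk) hb
      have haP := hP02 a haK ⟨s, hs⟩
      have h1 : (x : G) * a * (x : G)⁻¹ ∈ P0 := by
        have h2 := (mem_normalizer_iff.1 hxN ⟨a, hP0C haP⟩).1 (mem_subgroupOf.2 haP)
        exact mem_subgroupOf.1 h2
      have h3 : (x : G) * b * (x : G)⁻¹ = b := by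
        have h4 := (hmC x).1 x.2 b hbK hbo
        rw [← h4, mul_inv_cancel_right]
      have e : (x : G) * k * (x : G)⁻¹ = ((x : G) * a * (x : G)⁻¹) * ((x : G) * b * (x : G)⁻¹) := by
        rw [hab]; group
      rw [e, h3]
      exact mul_mem (hP0K h1) hbK
    rw [hK.2] at hxK
    obtain ⟨s, hs⟩ := T.2 ⟨x, hxT⟩
    have h5 : (x : C) ^ 2 ^ s = 1 := congrArg Subtype.val hs
    have h6 : (x : G) ^ 2 ^ s = 1 := congrArg Subtype.val h5
    exact hxP (mem_subgroupOf.2 (hP02 x hxK ⟨s, h6⟩))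
  have haC : a ∈ C := (hmC a).2 h
  have h1 : IsPGroup 2 (zpowers (⟨a, haC⟩ : C)) := by
    refine IsPGroup.of_card_dvd_pow (n := 1) ?_
    rw [Nat.card_zpowers, Subgroup.orderOf_mk, ha]
    norm_num
  obtain ⟨Q, hQ⟩ := h1.exists_le_sylow
  obtain ⟨g, hg⟩ := MulAction.exists_smul_eq C Q T
  have h2 : g * (⟨a, haC⟩ : C) * g⁻¹ ∈ (T : Subgroup C) := by
    rw [← hg, Sylow.coe_subgroup_smul]
    exact cj_mem (hQ (mem_zpowers _))
  rw [hTle, mem_subgroupOf] at h2
  have h3 : (g : G) * a * (g : G)⁻¹ ∈ P0 := h2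
  have h4 : (g : G) * a * (g : G)⁻¹ ∈ K ⊓ S := ⟨hP0K h3, (inferInstance : S.Normal).conj_mem a haS g⟩
  have h5 : orderOf (⟨_, h4⟩ : ↥(K ⊓ S)) = 2 := by
    rw [Subgroup.orderOf_mk, ← ha]
    exact orderOf_injective (MulAut.conj (g : G)).toMonoidHom (MulAut.conj (g : G)).injective a
  rw [← h5]
  exact orderOf_dvd_natCard _

/-- **(A)** `|K ∩ S|` is even. -/
theorem even_of_invZ (hF : Fpf.{u}) (c : Ctx G S) {X : Type} [Group X] (e : S ≃* X) {r : ℕ} [hr : Fact r.Prime]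
    (hr2 : r ≠ 2) (hZ : InvZ r X) (hSyl : SylInv r X) {K : Subgroup G} (hK : IsCarter K) :
    2 ∣ Nat.card ↥(K ⊓ S) := by
  by_cases hl : ∃ l : ℕ, l.Prime ∧ l ≠ 2 ∧ l ≠ r ∧ l ∣ Nat.card ↥(K ⊓ S)
  · obtain ⟨l, hl, hl2, hlr, hd⟩ := hl
    haveI : Fact l.Prime := ⟨hl⟩
    obtain ⟨z, hzS, hzK, hzo, hzc⟩ := exists_central (S := S) hK.1 hd
    obtain ⟨z', hz'⟩ : ∃ z' : S, z' = ⟨z, hzS⟩ := ⟨_, rfl⟩
    have ho : orderOf (e z') = l := by rw [MulEquiv.orderOf_eq, hz', Subgroup.orderOf_mk, hzo]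
    have hrig : Rigid (e z') := by
      intro g hg
      have h1 : (e.symm g) * z' * (e.symm g)⁻¹ ∈ zpowers z' := by
        obtain ⟨j, hj⟩ := mem_zpowers_iff.1 hg
        refine mem_zpowers_iff.2 ⟨j, e.injective ?_⟩
        rw [map_zpow, map_mul, map_mul, map_inv, e.apply_symm_apply]
        exact hj
      have h2 : ((e.symm g : S) : G) * z * ((e.symm g : S) : G)⁻¹ = z := by
        refine c.eq_of_conj hK hzc ?_
        obtain ⟨j, hj⟩ := mem_zpowers_iff.1 h1
        have h3 : z ^ j = ((e.symm g : S) : G) * z * ((e.symm g : S) : G)⁻¹ := by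
          have h4 := congrArg (fun y : S => (y : G)) hj
          rw [hz'] at h4
          exact h4
        rw [← h3]
        intro k hk
        rw [mem_centralizer_singleton_iff]
        have h4 : Commute k z := mem_centralizer_singleton_iff.1 (hzc hk)
        exact (h4.zpow_right j).eq
      have h5 : (e.symm g) * z' * (e.symm g)⁻¹ = z' := by
        apply Subtype.ext
        rw [hz']
        exact h2
      have h6 := congrArg e h5
      rwa [map_mul, map_mul, map_inv, e.apply_symm_apply] at h6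
    obtain ⟨a, ha2, ha⟩ := hZ (e z') (ho ▸ hl) (ho ▸ hl2) (ho ▸ hlr) hrig
    refine even_of_comm hK (a := ((e.symm a : S) : G)) (e.symm a).2 ?_ ?_
    · rw [orderOf_coe, MulEquiv.orderOf_eq, ha2]
    · intro k hk hko
      obtain ⟨α, hα⟩ : ∃ α : MulAut X, α = ((MulAut.congr e).toMonoidHom.comp (MulAut.conjNormal : G →* MulAut S)) k :=
        ⟨_, rfl⟩
      have hap : ∀ x : X, α x = e (MulAut.conjNormal k (e.symm x)) := by
        intro x
        rw [hα]
        rfl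
      have h1 : Odd (orderOf α) := by
        rw [hα]
        exact Odd.of_dvd_nat hko (orderOf_map_dvd _ k)
      have h2 : α (e z') = e z' := by
        rw [hap, e.symm_apply_apply]
        congr 1
        apply Subtype.ext
        rw [MulAut.conjNormal_apply, hz']
        show k * z * k⁻¹ = z
        rw [mem_centralizer_singleton_iff.1 (hzc hk), mul_inv_cancel_right]
      have h3 := ha α h1 h2
      rw [hap] at h3
      have h4 : MulAut.conjNormal k (e.symm a) = e.symm a := by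
        apply e.injective
        rw [h3, e.apply_symm_apply]
      have h5 := congrArg (fun y : S => (y : G)) h4
      rw [MulAut.conjNormal_apply] at h5
      exact (mul_inv_eq_iff_eq_mul.1 h5)
  · refine even_of_sylInv hF c e hr2 hSyl hK fun l hp hd => ?_
    by_contra hne
    rw [not_or] at hne
    exact hl ⟨l, hp, hne.1, hne.2, hd⟩

/-- **the rows `E₆(q)`, `²E₆(q)`, `q` odd** -/
theorem row_six_odd (hF : Fpf.{u}) (c : Ctx G S) {X : Type} [Group X] (e : S ≃* X) {r : ℕ} [hr : Fact r.Prime]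
    (hr2 : r ≠ 2) (hZ : InvZ r X) (hSyl : SylInv r X) {t0 : X} (h6 : SixJ X t0) (hCl : InvCl X t0) : Row G S := by
  haveI : Fact (Nat.Prime 2) := ⟨Nat.prime_two⟩
  have hev : ∀ K : Subgroup G, IsCarter K → 2 ∣ Nat.card ↥(K ⊓ S) :=
    fun K hK => even_of_invZ hF c e hr2 hZ hSyl hK
  refine ⟨wtAll_of_even hev, ?_⟩
  intro K H hK hH
  obtain ⟨t, htS, htK, hto, htc⟩ := exists_central (S := S) hK.1 (hev K hK)
  obtain ⟨s, hsS, hsH, hso, hsc⟩ := exists_central (S := S) hH.1 (hev H hH)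
  have h1 : ¬ IsConj (e ⟨t, htS⟩) t0 := fun h => Cfsg.Agent.H308.Car.no_six hF c e h6 hK htS htc h
  have h2 : ¬ IsConj (e ⟨s, hsS⟩) t0 := fun h => Cfsg.Agent.H308.Car.no_six hF c e h6 hH hsS hsc h
  obtain ⟨x, hx⟩ := isConj_iff.1 (hCl.2 (e ⟨t, htS⟩) (e ⟨s, hsS⟩) (by rw [MulEquiv.orderOf_eq, Subgroup.orderOf_mk, hto])
    (by rw [MulEquiv.orderOf_eq, Subgroup.orderOf_mk, hso]) h1 h2)
  have h3 : e.symm x * (⟨t, htS⟩ : S) * (e.symm x)⁻¹ = ⟨s, hsS⟩ := by
    apply e.injective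
    rw [map_mul, map_mul, map_inv, e.apply_symm_apply, hx]
  have h4 : ((e.symm x : S) : G) * t * ((e.symm x : S) : G)⁻¹ = s := congrArg (fun y : S => (y : G)) h3
  refine c.conj_of_cent hK hH (z := t) ?_ htc (g := ((e.symm x : S) : G)) ?_
  · rintro rfl
    rw [orderOf_one] at hto
    exact absurd hto (by norm_num)
  · rw [h4]
    exact hsc

end

end Cfsg.Agent.H18.Carter
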