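import Cfsg.Agent.H18.Carter.Basic

/-!
# Conjugacy of Carter subgroups: elimination of several components
-/

set_option autoImplicit false
set_option linter.unusedSectionVars false
set_option linter.unusedVariables false

namespace Cfsg.Agent.H18.Carter

open Subgroup Pointwise
open Cfsg.Agent.Solvable.Carter
open scoped commutatorElement

universe u

variable {G : Type u} [Group G]

theorem le_normalizer_of_normal_aux {N : Subgroup G} (hN : N.Normal) (K : Subgroup G) : K ≤ normalizer (N : Set G) := by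
  rw [normalizer_eq_top]; exact le_top

/-- `N_K(X) C_G(X)` -/
def Y (K X : Subgroup G) : Subgroup G := (K ⊓ normalizer (X : Set G)) ⊔ centralizer (X : Set G)

theorem cj_Y (g : G) (K X : Subgroup G) : MulAut.conj g • Y K X = Y (MulAut.conj g • K) (MulAut.conj g • X) := by
  unfold Y
  rw [Subgroup.smul_sup, Subgroup.smul_inf, cj_normalizer, cj_centralizer]

theorem cent_le_Y (K X : Subgroup G) : centralizer (X : Set G) ≤ Y K X := le_sup_right

theorem inf_le_Y (K X : Subgroup G) : K ⊓ normalizer (X : Set G) ≤ Y K X := le_sup_left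

theorem Y_le_norm (K X : Subgroup G) : Y K X ≤ normalizer (X : Set G) :=
  sup_le inf_le_right (centralizer_le_normalizer _)

theorem cent_norm (X : Subgroup G) : normalizer (X : Set G) ≤ normalizer (centralizer (X : Set G) : Set G) := by
  intro g hg
  rw [← cj_eq_self_iff, cj_centralizer, cj_eq_self_iff.2 hg]

/-- elements equal modulo `C_G(X)` act equally on subgroups containing `C_G(X)` -/
theorem cj_eq_of_mod {X Z : Subgroup G} (hZ : centralizer (X : Set G) ≤ Z) {x y : G} (h : x⁻¹ * y ∈ centralizer (X : Set G)) :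
    MulAut.conj x • Z = MulAut.conj y • Z := by
  have e : y = x * (x⁻¹ * y) := by group
  rw [e, ← cj_cj, cj_self (hZ h)]

/-- the configuration: `N` is the direct product of the nonabelian simple groups `T i`, permuted transitively by `G` -/
structure Cfg (G : Type u) [Group G] (m : ℕ) where
  N : Subgroup G
  T : Fin m → Subgroup G
  nN : N.Normal
  TN : ∀ i, T i ≤ N
  ne : ∀ i, T i ≠ ⊥
  nT : ∀ i, N ≤ normalizer (T i : Set G)
  comm : ∀ i j, i ≠ j → ∀ x ∈ T i, ∀ y ∈ T j, x * y = y * x
  sup : ⨆ i, T i = N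
  cen : centralizer (N : Set G) = ⊥
  zT : ∀ i, T i ⊓ centralizer (T i : Set G) = ⊥
  perm : ∀ (g : G) (i : Fin m), ∃ j, MulAut.conj g • T i = T j
  trans : ∀ i j, ∃ g : G, MulAut.conj g • T i = T j
  sol : Group.IsSolvable (G ⧸ N)

namespace Cfg

variable {m : ℕ} (c : Cfg G m)

theorem T_le_cent {i j : Fin m} (h : i ≠ j) : c.T j ≤ centralizer (c.T i : Set G) := by
  intro y hy x hx
  exact c.comm i j h x hx y hy

theorem N_le (i : Fin m) : c.N ≤ c.T i ⊔ centralizer (c.T i : Set G) := by
  rw [← c.sup]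
  refine iSup_le fun j => ?_
  by_cases h : i = j
  · rw [h]; exact le_sup_left
  · exact (c.T_le_cent h).trans le_sup_right

theorem eq_one {n : G} (hn : ∀ i, n ∈ centralizer (c.T i : Set G)) : n = 1 := by
  have h1 : n ∈ centralizer (c.N : Set G) := by
    have h2 : c.N ≤ centralizer ({n} : Set G) := by
      rw [← c.sup]
      refine iSup_le fun i x hx => ?_
      rw [mem_centralizer_singleton_iff]
      exact (hn i x hx)
    intro x hx
    have := h2 hx
    rw [mem_centralizer_singleton_iff] at this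
    exact this
  rw [c.cen, mem_bot] at h1
  exact h1

/-- elements of `N` with prescribed components -/
theorem spread (t : Fin m → G) (ht : ∀ i, t i ∈ c.T i) :
    ∃ n ∈ c.N, ∀ i, (t i)⁻¹ * n ∈ centralizer (c.T i : Set G) := by
  classical
  have key : ∀ s : Finset (Fin m), ∃ n ∈ c.N, (∀ i ∈ s, (t i)⁻¹ * n ∈ centralizer (c.T i : Set G)) ∧
      ∀ i ∉ s, n ∈ centralizer (c.T i : Set G) := by
    intro s
    induction s using Finset.induction_on with
    | empty => exact ⟨1, one_mem _, fun i hi => absurd hi (Finset.notMem_empty i), fun i _ => one_mem _⟩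
    | insert j s hj ih =>
      obtain ⟨n, hn, h1, h2⟩ := ih
      refine ⟨t j * n, mul_mem (c.TN j (ht j)) hn, ?_, ?_⟩
      · intro i hi
        by_cases hij : i = j
        · subst hij
          rw [inv_mul_cancel_left]
          exact h2 i hj
        · have his : i ∈ s := (Finset.mem_insert.1 hi).resolve_left hij
          have h3 : t j ∈ centralizer (c.T i : Set G) := c.T_le_cent hij (ht j)
          have h4 : t i * t j = t j * t i := c.comm i j hij _ (ht i) _ (ht j)
          have h5 : (t i)⁻¹ * (t j * n) = t j * ((t i)⁻¹ * n) := by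
            have : (t i)⁻¹ * t j = t j * (t i)⁻¹ := by
              rw [inv_mul_eq_iff_eq_mul, ← mul_assoc, h4, mul_inv_cancel_right]
            rw [← mul_assoc, this, mul_assoc]
          rw [h5]
          exact mul_mem h3 (h1 i his)
      · intro i hi
        rw [Finset.mem_insert, not_or] at hi
        exact mul_mem (c.T_le_cent hi.1 (ht j)) (h2 i hi.2)
  obtain ⟨n, hn, h1, -⟩ := key Finset.univ
  exact ⟨n, hn, fun i => h1 i (Finset.mem_univ i)⟩

/-- the subgroup `Δ` -/
def Del (K : Subgroup G) : Subgroup G := c.N ⊓ ⨅ i, Y K (c.T i)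

theorem mem_Del {K : Subgroup G} {x : G} : x ∈ c.Del K ↔ x ∈ c.N ∧ ∀ i, x ∈ Y K (c.T i) := by
  rw [Del, mem_inf, mem_iInf]

theorem Del_norm (K : Subgroup G) : K ≤ normalizer (c.Del K : Set G) := by
  have h : ∀ k ∈ K, ∀ x ∈ c.Del K, k * x * k⁻¹ ∈ c.Del K := by
    intro k hk x hx
    rw [mem_Del] at hx ⊢
    refine ⟨c.nN.conj_mem x hx.1 k, fun j => ?_⟩
    obtain ⟨i, hi⟩ := c.perm k⁻¹ j
    have h1 : MulAut.conj k • c.T i = c.T j := by rw [← hi, cj_cj, mul_inv_cancel, cj_one]
    have h2 := cj_mem (g := k) (hx.2 i)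
    rwa [cj_Y, cj_self hk, h1] at h2
  intro k hk
  rw [mem_normalizer_iff]
  intro x
  refine ⟨h k hk x, fun hx => ?_⟩
  have := h k⁻¹ (inv_mem hk) _ hx
  have e : k⁻¹ * (k * x * k⁻¹) * k⁻¹⁻¹ = x := by group
  rwa [e] at this

theorem inf_le_Del (K : Subgroup G) : K ⊓ c.N ≤ c.Del K := by
  rintro x ⟨hx, hxN⟩
  exact (c.mem_Del).2 ⟨hxN, fun i => inf_le_Y _ _ ⟨hx, c.nT i hxN⟩⟩

theorem sup_Del {K : Subgroup G} {x : G} (hx : x ∈ K ⊔ c.Del K) (hxN : x ∈ c.N) : x ∈ c.Del K := by
  obtain ⟨k, hk, d, hd, rfl⟩ := mul_mem_of_norm' (c.Del_norm K) hx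
  have h1 : k ∈ c.N := by
    have := mul_mem hxN (inv_mem ((c.mem_Del).1 hd).1)
    rwa [mul_inv_cancel_right] at this
  exact mul_mem (c.inf_le_Del K ⟨hk, h1⟩) hd

/-- the solvability criterion -/
theorem solvable [Finite G] {K M : Subgroup G} (hK : Group.IsSolvable K) (hM : ∀ x ∈ M, x ∈ c.N → ∀ i, x ∈ Y K (c.T i)) :
    Group.IsSolvable M := by
  have := c.nN
  refine solvable_of_perfect fun P hPM hP => ?_
  have hPN : P ≤ c.N := by
    have h1 : ⁅P.map (QuotientGroup.mk' c.N), P.map (QuotientGroup.mk' c.N)⁆ = P.map (QuotientGroup.mk' c.N) := by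
      rw [← map_commutator, hP]
    have h2 : P.map (QuotientGroup.mk' c.N) ≤ ⊥ := by
      refine perfect_le h1 (K := ⊤) ?_ (by rw [normalizer_eq_top]) (by rw [sup_bot_eq]; exact le_top)
      have := c.sol
      infer_instance
    intro x hx
    have h3 := h2 (mem_map_of_mem _ hx)
    rw [mem_bot] at h3
    exact (QuotientGroup.eq_one_iff x).1 h3
  rw [eq_bot_iff]
  intro x hx
  rw [mem_bot]
  refine c.eq_one fun i => ?_
  have h1 : Group.IsSolvable ↥(K ⊓ normalizer (c.T i : Set G)) := by
    exact Group.isSolvable_of_isSolvable_injective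
      (f := inclusion (inf_le_left : K ⊓ normalizer (c.T i : Set G) ≤ K)) (inclusion_injective _)
  have h2 : P ≤ (K ⊓ normalizer (c.T i : Set G)) ⊔ centralizer (c.T i : Set G) := fun y hy => hM y (hPM hy) (hPN hy) i
  exact perfect_le hP h1 (inf_le_right.trans (cent_norm _)) h2 hx

/-- `K N = G` implies that `K` is transitive -/
theorem transK {K : Subgroup G} (hK : K ⊔ c.N = ⊤) (i j : Fin m) : ∃ k ∈ K, MulAut.conj k • c.T i = c.T j := by
  have := c.nN
  obtain ⟨g, hg⟩ := c.trans i j
  have h1 : g ∈ K ⊔ c.N := by rw [hK]; trivial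
  obtain ⟨k, hk, n, hn, rfl⟩ := mul_mem_of_norm' (le_normalizer_of_normal_aux c.nN K) h1
  refine ⟨k, hk, ?_⟩
  rw [← cj_cj, cj_eq_self_iff.2 (c.nT i hn)] at hg
  exact hg

end Cfg

end Cfsg.Agent.H18.Carter
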